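import Mathlib.AlgebraicGeometry.Sites.BigZariski
import Groth.Agent.BlowUpLib.Local
import Groth.Agent.MorLib.IdealFG2

/-!
# Sieves of liftable morphisms, and the pieces of an affine blow up
-/

set_option autoImplicit false
set_option backward.isDefEq.respectTransparency false
set_option backward.isDefEq.respectTransparency.types false

universe u

namespace Groth.Agent.HSquare

open CategoryTheory CategoryTheory.Limits AlgebraicGeometry
open Groth.Agent.BlowUpLib

/-- The morphisms which lift along `f`. -/
def lifts {X Y : Scheme.{u}} (f : Y ⟶ X) : Sieve X where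
  arrows Z g := ∃ l : Z ⟶ Y, l ≫ f = g
  downward_closed := by rintro Z W g ⟨l, rfl⟩ k; exact ⟨k ≫ l, Category.assoc _ _ _⟩

theorem lifts_eq_generate {X Y : Scheme.{u}} (f : Y ⟶ X) :
    lifts f = Sieve.generate (Presieve.singleton f) := by
  refine Sieve.ext fun Z g => ⟨fun ⟨l, hl⟩ => ⟨Y, l, f, ⟨⟩, hl⟩, ?_⟩
  rintro ⟨_, l, _, ⟨⟩, hl⟩
  exact ⟨l, hl⟩

theorem lifts_eq_sieve₀ {X Y : Scheme.{u}} (f : Y ⟶ X) :
    (PreZeroHypercover.singleton.{0} f).sieve₀ = lifts f := by
  rw [lifts_eq_generate]
  show Sieve.generate _ = _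
  congr 1
  exact Presieve.ofArrows_pUnit.{0} (f := f)

theorem pullback_lifts_of_isPullback {X Y X' Y' : Scheme.{u}} {f : Y ⟶ X} {g : X' ⟶ X} {f' : Y' ⟶ X'}
    {g' : Y' ⟶ Y} (h : IsPullback g' f' f g) : (lifts f).pullback g = lifts f' := by
  refine Sieve.ext fun Z k => ⟨fun ⟨l, hl⟩ => ⟨h.lift l k hl, h.lift_snd _ _ _⟩, ?_⟩
  rintro ⟨l, rfl⟩
  exact ⟨l ≫ g', by rw [Category.assoc, h.w, Category.assoc]⟩

theorem pullback_mem_of_fac {J : GrothendieckTopology Scheme.{u}} {X Y Z : Scheme.{u}} {T : Sieve X} {g : Y ⟶ X}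
    (h : T.pullback g ∈ J Y) (k : Z ⟶ Y) (g' : Z ⟶ X) (e : k ≫ g = g') : T.pullback g' ∈ J Z := by
  rw [← e, Sieve.pullback_comp]
  exact J.pullback_stable k h

theorem comap_centre {A B : Type u} [CommRing A] [CommRing B] (φ : A →+* B) (I : Ideal A) :
    (centre I).comap (Spec.map (CommRingCat.ofHom φ)) = centre (I.map φ) := by
  refine Scheme.IdealSheafData.ext_of_isAffine ?_
  rw [centre_top, ModPairLib.comap_ideal_affine, centre_top, Ideal.map_map, Ideal.map_map,
    ← CommRingCat.hom_comp, ← Scheme.ΓSpecIso_inv_naturality]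
  rfl

/-- The chart ring of an affine blow up. -/
abbrev Chart {R : Type u} [CommRing R] (I : Ideal R) (a : I) : Type u := ↥(BlowUp.affineAlgebra R I (a : R))

theorem isEffCartier_chart {R : Type u} [CommRing R] (I : Ideal R) (a : I) :
    BlowUp.IsEffCartierIdeal ((centre I).comap (Spec.map (CommRingCat.ofHom (algebraMap R (Chart I a))))) := by
  rw [← chart_toBase, Scheme.IdealSheafData.comap_comp]
  exact isEffCartier_comap_flat _ (isBlowUp_local I).1

theorem map_chart_eq_span {R : Type u} [CommRing R] (I : Ideal R) (a : I) :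
    I.map (algebraMap R (Chart I a)) = Ideal.span {algebraMap R (Chart I a) a} := by
  refine le_antisymm (Ideal.map_le_iff_le_comap.mpr fun x hx => Ideal.mem_span_singleton'.mpr
    ⟨frac I ⟨x, hx⟩ a, frac_mul I ⟨x, hx⟩ a⟩) ?_
  exact (Ideal.span_singleton_le_iff_mem _).mpr (Ideal.mem_map_of_mem _ a.2)

theorem nonZeroDivisor_chart {R : Type u} [CommRing R] (I : Ideal R) (a : I) :
    algebraMap R (Chart I a) a ∈ nonZeroDivisors (Chart I a) :=
  mem_nonZeroDivisors_iff_right.mpr fun q hq => Subtype.ext (mem_nonZeroDivisors_iff_right.mp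
    (IsLocalization.Away.algebraMap_isUnit (S := Localization.Away (a : R))
      (a : R)).mem_nonZeroDivisors q.1 (congrArg Subtype.val hq))

theorem isNoetherianRing_chart {R : Type u} [CommRing R] [IsNoetherianRing R] (I : Ideal R) (a : I) :
    IsNoetherianRing (Chart I a) := by
  obtain ⟨s, hs⟩ := IsNoetherian.noetherian I
  have : (BlowUp.affineAlgebra R I (a : R)).FG := by
    classical
    refine ⟨s.image fun x => IsLocalization.mk' (Localization.Away (a : R)) x
      (⟨(a : R), Submonoid.mem_powers _⟩ : Submonoid.powers (a : R)), ?_⟩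
    refine le_antisymm (Algebra.adjoin_le ?_) (Algebra.adjoin_le ?_)
    · intro q hq
      obtain ⟨x, hx, rfl⟩ := Finset.mem_image.mp hq
      exact Algebra.subset_adjoin ⟨x, hs ▸ Submodule.subset_span hx, rfl⟩
    · rintro _ ⟨x, hx, rfl⟩
      rw [← hs] at hx
      refine Submodule.span_induction (p := fun x _ => IsLocalization.mk' (Localization.Away (a : R)) x
        (⟨(a : R), Submonoid.mem_powers _⟩ : Submonoid.powers (a : R)) ∈ _) (fun x hx => ?_) ?_ ?_ ?_ hx
      · exact Algebra.subset_adjoin (Finset.mem_coe.mpr (Finset.mem_image_of_mem _ hx))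
      · rw [IsLocalization.mk'_zero]; exact zero_mem _
      · intro x y _ _ hx hy
        have := add_mem hx hy
        rw [IsLocalization.mk'_eq_mul_mk'_one x, IsLocalization.mk'_eq_mul_mk'_one y, ← add_mul, ← map_add,
          ← IsLocalization.mk'_eq_mul_mk'_one] at this
        exact this
      · intro r x _ hx
        have := Subalgebra.smul_mem _ hx r
        rwa [IsLocalization.smul_mk'] at this
  haveI : Algebra.FiniteType R (Chart I a) := (Subalgebra.fg_iff_finiteType _).mp this
  exact Algebra.FiniteType.isNoetherianRing R _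

/-- The sieve of the pieces of an affine blow up: the centre and all charts. -/
def pieces {R : Type u} [CommRing R] (I : Ideal R) : Sieve (Spec (CommRingCat.of R)) where
  arrows Z g := (∃ l, l ≫ Spec.map (CommRingCat.ofHom (Ideal.Quotient.mk I)) = g) ∨
    ∃ l : Z ⟶ localBlowUp I, l ≫ toBase I = g
  downward_closed := by
    rintro Z W g (⟨l, rfl⟩ | ⟨l, rfl⟩) k
    · exact Or.inl ⟨k ≫ l, Category.assoc _ _ _⟩
    · exact Or.inr ⟨k ≫ l, Category.assoc _ _ _⟩

theorem mem_of_charts {J : GrothendieckTopology Scheme.{u}} (hz : Scheme.zariskiTopology ≤ J)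
    {R : Type u} [CommRing R] (I : Ideal R) (hI : pieces I ∈ J _) (T : Sieve (Spec (CommRingCat.of R)))
    (h0 : T.pullback (Spec.map (CommRingCat.ofHom (Ideal.Quotient.mk I))) ∈ J _)
    (h1 : ∀ a : I, T.pullback (Spec.map (CommRingCat.ofHom (algebraMap R (Chart I a)))) ∈ J _) : T ∈ J _ := by
  refine J.transitive hI _ ?_
  rintro Z g (⟨l, rfl⟩ | ⟨l, rfl⟩)
  · exact pullback_mem_of_fac h0 l _ rfl
  · refine pullback_mem_of_fac ?_ l _ rfl
    let 𝒰 : Scheme.OpenCover.{u} (localBlowUp I) :=
      { I₀ := I
        X := fun a => Spec (CommRingCat.of (Chart I a))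
        f := fun a => chart I a
        mem₀ := by
          rw [Scheme.presieve₀_mem_precoverage_iff]
          exact ⟨fun x => have ⟨a, z, hz⟩ := chart_covers I x; ⟨a, z, hz⟩, fun a => inferInstance⟩ }
    refine J.transitive (hz _ 𝒰.mem_grothendieckTopology) _ ?_
    rintro W _ ⟨_, k, _, ⟨a⟩, rfl⟩
    rw [← Sieve.pullback_comp]
    exact pullback_mem_of_fac (h1 a) k _ (by rw [Category.assoc, ← chart_toBase I a])

/-- All blow ups are covering once those of ideals with two generators are. -/
theorem pieces_mem {J : GrothendieckTopology Scheme.{u}} (hz : Scheme.zariskiTopology ≤ J)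
    (h2 : ∀ (R : Type u) [CommRing R] [IsNoetherianRing R] (a b : R), pieces (Ideal.span {a, b}) ∈ J _)
    (n : ℕ) : ∀ (R : Type u) [CommRing R] [IsNoetherianRing R] (s : Finset R), s.card ≤ n →
      pieces (Ideal.span (s : Set R)) ∈ J _ := by
  induction n with
  | zero =>
    intro R _ _ s hs
    have : s = ∅ := Finset.card_eq_zero.mp (Nat.le_zero.mp hs)
    subst this
    have e : Ideal.span (((∅ : Finset R)) : Set R) = Ideal.span {(0 : R), 0} := by simp
    rw [e]
    exact h2 R 0 0
  | succ n ih =>
    intro R _ _ s hs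
    classical
    by_cases hcard : s.card ≤ 2
    · rcases Nat.lt_or_ge s.card 1 with h | h
      · exact ih R s (by omega)
      rcases Nat.eq_or_lt_of_le h with h | h
      · obtain ⟨a, rfl⟩ := Finset.card_eq_one.mp h.symm
        rw [show Ideal.span (({a} : Finset R) : Set R) = Ideal.span {a, a} by simp]
        exact h2 R a a
      · obtain ⟨a, b, -, rfl⟩ := Finset.card_eq_two.mp (by omega : s.card = 2)
        rw [show Ideal.span (({a, b} : Finset R) : Set R) = Ideal.span {a, b} by simp]
        exact h2 R a b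
    obtain ⟨a, ha, b, hb, hab⟩ := Finset.one_lt_card.mp (by omega : 1 < s.card)
    let I := Ideal.span (s : Set R)
    -- transfer along a ring map with fewer generators
    have key : ∀ (R' : Type u) [CommRing R'] [IsNoetherianRing R'] (φ : R →+* R') (t : Finset R'),
        t.card ≤ n → Ideal.span (t : Set R') = I.map φ →
        (pieces I).pullback (Spec.map (CommRingCat.ofHom φ)) ∈ J _ := by
      intro R' _ _ φ t ht he
      refine J.superset_covering ?_ (he ▸ ih R' t ht)
      rintro Z g (⟨l, rfl⟩ | ⟨l, rfl⟩)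
      · refine Or.inl ⟨l ≫ Spec.map (CommRingCat.ofHom (Ideal.quotientMap (I.map φ) φ Ideal.le_comap_map)), ?_⟩
        rw [Category.assoc, Category.assoc, ← Spec.map_comp, ← Spec.map_comp]
        rfl
      · have hc : BlowUp.IsEffCartierIdeal ((centre I).comap (toBase (I.map φ) ≫ Spec.map (CommRingCat.ofHom φ))) := by
          rw [Scheme.IdealSheafData.comap_comp, comap_centre]
          exact (isBlowUp_local (I.map φ)).1
        obtain ⟨h, hh⟩ := exists_lift I hc
        exact Or.inr ⟨l ≫ h, by rw [Category.assoc, hh, Category.assoc]⟩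
    refine mem_of_charts hz _ (h2 R a b) _ ?_ fun c => ?_
    · refine key _ (Ideal.Quotient.mk _) (((s.erase a).erase b).image (Ideal.Quotient.mk _))
        (Finset.card_image_le.trans ?_) ?_
      · rw [Finset.card_erase_of_mem (Finset.mem_erase.mpr ⟨hab.symm, hb⟩), Finset.card_erase_of_mem ha]
        omega
      · rw [Finset.coe_image, ← Ideal.map_span]
        refine le_antisymm (Ideal.map_mono (Ideal.span_mono fun x hx =>
          (Finset.mem_of_mem_erase (Finset.mem_of_mem_erase hx)))) ?_
        rw [Ideal.map_le_iff_le_comap, Ideal.span_le]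
        intro x hx
        by_cases h : x = a ∨ x = b
        · rw [SetLike.mem_coe, Ideal.mem_comap]
          have h0 : x ∈ Ideal.span {a, b} := Ideal.subset_span (by simpa using h)
          rw [Ideal.Quotient.eq_zero_iff_mem.mpr h0]
          exact zero_mem _
        · push_neg at h
          exact Ideal.mem_map_of_mem _ (Ideal.subset_span (by simp [h.1, h.2, Finset.mem_coe.mp hx]))
    · haveI := isNoetherianRing_chart (Ideal.span {a, b}) c
      refine key _ (algebraMap R _)
        (insert (algebraMap R _ (c : R)) (((s.erase a).erase b).image (algebraMap R _)))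
        ((Finset.card_insert_le _ _).trans (Nat.add_le_of_le_sub (by omega) (Finset.card_image_le.trans ?_))) ?_
      · rw [Finset.card_erase_of_mem (Finset.mem_erase.mpr ⟨hab.symm, hb⟩), Finset.card_erase_of_mem ha]
        omega
      · rw [Finset.coe_insert, Finset.coe_image, Ideal.span_insert (algebraMap R _ (c : R)), ← Ideal.map_span,
          ← map_chart_eq_span (Ideal.span {a, b}) c, ← Ideal.map_sup]
        refine congrArg _ ((Ideal.span_union _ _).symm.trans (congrArg Ideal.span ?_))
        ext x
        simp only [Set.mem_union, Set.mem_insert_iff, Set.mem_singleton_iff, Finset.mem_coe, Finset.mem_erase]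
        exact ⟨by rintro ((rfl | rfl) | ⟨-, -, h⟩) <;> assumption, fun h => by tauto⟩

theorem pieces_mem' {J : GrothendieckTopology Scheme.{u}} (hz : Scheme.zariskiTopology ≤ J)
    (h2 : ∀ (R : Type u) [CommRing R] [IsNoetherianRing R] (a b : R), pieces (Ideal.span {a, b}) ∈ J _)
    {R : Type u} [CommRing R] [IsNoetherianRing R] (I : Ideal R) : pieces I ∈ J _ := by
  obtain ⟨s, hs⟩ := IsNoetherian.noetherian I
  rw [← hs]
  exact pieces_mem hz h2 s.card R s le_rfl

end Groth.Agent.HSquare
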