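import Mathlib.AlgebraicGeometry.Morphisms.Proper
import Mathlib.AlgebraicGeometry.Morphisms.FiniteType
import Mathlib.RingTheory.Jacobson.Ring
import Mathlib.RingTheory.Localization.FractionRing
import Mathlib.LinearAlgebra.Dimension.StrongRankCondition
import Mathlib.RingTheory.Finiteness.Basic

/-!
# A finite free cover of a domain with a rational point in a given scheme of finite type
-/

set_option autoImplicit false

universe u

namespace Groth.Agent.HSquare

open CategoryTheory CategoryTheory.Limits AlgebraicGeometry

/-- A point with values in a finite extension of the fraction field. -/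
theorem exists_finite_point {R : Type u} [CommRing R] [IsDomain R] {V : Scheme.{u}}
    (f : V ⟶ Spec (CommRingCat.of R)) [LocallyOfFiniteType f] [Surjective f] :
    ∃ (L : Type u) (_ : Field L) (_ : Algebra R L) (_ : Algebra (FractionRing R) L)
      (_ : IsScalarTower R (FractionRing R) L) (_ : Module.Finite (FractionRing R) L)
      (ξ : Spec (CommRingCat.of L) ⟶ V), ξ ≫ f = Spec.map (CommRingCat.ofHom (algebraMap R L)) := by
  let K := FractionRing R
  let g : Spec (CommRingCat.of K) ⟶ Spec (CommRingCat.of R) := Spec.map (CommRingCat.ofHom (algebraMap R K))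
  obtain ⟨v, hv⟩ := f.surjective (g default)
  obtain ⟨z, -, -⟩ := Scheme.Pullback.exists_preimage_pullback (f := f) (g := g) v default hv
  obtain ⟨W, hW, hzW, -⟩ := exists_isAffineOpen_mem_and_subset (x := z) (U := ⊤) trivial
  let B := Γ(pullback f g, W)
  let ψ : CommRingCat.of K ⟶ B :=
    (Scheme.ΓSpecIso (CommRingCat.of K)).inv ≫ (pullback.snd f g).appLE ⊤ W le_top
  have hψ : Spec.map ψ = hW.fromSpec ≫ pullback.snd f g := by
    rw [← IsAffineOpen.SpecMap_appLE_fromSpec _ (isAffineOpen_top _) hW le_top, IsAffineOpen.fromSpec_top,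
      Scheme.isoSpec_Spec_inv, ← Spec.map_comp]
  have hft : ψ.hom.FiniteType := by
    have : LocallyOfFiniteType (Spec.map ψ) := by rw [hψ]; infer_instance
    exact (HasRingHomProperty.Spec_iff (P := @LocallyOfFiniteType)).mp this
  haveI : Nontrivial B := by
    obtain ⟨p, -⟩ := hW.range_fromSpec.ge hzW
    exact ⟨⟨0, 1, fun h => p.2.ne_top ((Ideal.eq_top_iff_one _).mpr (h ▸ zero_mem _))⟩⟩
  obtain ⟨m, hm⟩ := Ideal.exists_maximal B
  letI : Algebra K B := ψ.hom.toAlgebra
  haveI : Algebra.FiniteType K B := hft
  letI := Ideal.Quotient.field m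
  let L := B ⧸ m
  haveI : Algebra.FiniteType K L := Algebra.FiniteType.of_surjective (Ideal.Quotient.mkₐ K m)
    (Ideal.Quotient.mkₐ_surjective K m)
  letI algRL : Algebra R L := ((algebraMap K L).comp (algebraMap R K)).toAlgebra
  haveI : IsScalarTower R K L := IsScalarTower.of_algebraMap_eq' rfl
  refine ⟨L, inferInstance, algRL, inferInstance, inferInstance, finite_of_finite_type_of_isJacobsonRing K L,
    Spec.map (CommRingCat.ofHom (Ideal.Quotient.mk m)) ≫ hW.fromSpec ≫ pullback.fst f g, ?_⟩
  simp only [Category.assoc]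
  rw [pullback.condition, ← Category.assoc hW.fromSpec, ← hψ]
  simp only [← Spec.map_comp, g]
  rfl

/-- A finite free subring with fraction field `L`. -/
theorem exists_finite_free {R : Type u} [CommRing R] [IsDomain R] (L : Type u) [Field L] [Algebra R L]
    [Algebra (FractionRing R) L] [IsScalarTower R (FractionRing R) L] [Module.Finite (FractionRing R) L] :
    ∃ C : Subalgebra R L, Module.Finite R C ∧ Module.Free R C ∧ ∀ l : L, ∃ r : R, r ≠ 0 ∧ r • l ∈ C := by
  classical
  let K := FractionRing R
  let hli : LinearIndepOn K id ({1} : Set L) := LinearIndepOn.singleton one_ne_zero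
  let b := Module.Basis.extend hli
  haveI : Finite (hli.extend (Set.subset_univ _)) := Module.Finite.finite_basis b
  haveI := Fintype.ofFinite (hli.extend (Set.subset_univ _))
  let i₀ : hli.extend (Set.subset_univ _) := ⟨1, hli.subset_extend _ rfl⟩
  have hb₀ : b i₀ = 1 := Module.Basis.extend_apply_self hli i₀
  have hinj : Function.Injective (algebraMap R L) := by
    rw [IsScalarTower.algebraMap_eq R K L]
    exact (algebraMap K L).injective.comp (IsFractionRing.injective R K)
  obtain ⟨D, hD⟩ := IsLocalization.exist_integer_multiples_of_finite (nonZeroDivisors R)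
    (fun t : hli.extend (Set.subset_univ _) × hli.extend (Set.subset_univ _) × hli.extend (Set.subset_univ _) =>
      b.repr (b t.1 * b t.2.1) t.2.2)
  choose γ hγ using hD
  have hD0 : (D : R) ≠ 0 := nonZeroDivisors.coe_ne_zero D
  let ε : hli.extend (Set.subset_univ _) → R := fun i => if i = i₀ then 1 else D
  let c : hli.extend (Set.subset_univ _) → L := fun i => ε i • b i
  have hmem : ∀ i, c i ∈ Submodule.span R (Set.range c) := fun i => Submodule.subset_span ⟨i, rfl⟩
  have h1 : (1 : L) ∈ Submodule.span R (Set.range c) := by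
    have := hmem i₀
    simpa [c, ε, hb₀] using this
  have hmul : ∀ i j, c i * c j ∈ Submodule.span R (Set.range c) := by
    intro i j
    by_cases hi : i = i₀
    · have : c i = 1 := by simp [c, ε, hi, hb₀]
      rw [this, one_mul]; exact hmem j
    by_cases hj : j = i₀
    · have : c j = 1 := by simp [c, ε, hj, hb₀]
      rw [this, mul_one]; exact hmem i
    have hij : c i * c j = (D : R) • ∑ k, γ (i, j, k) • b k := by
      simp only [c, ε, if_neg hi, if_neg hj, smul_mul_smul_comm, mul_smul]
      conv_lhs => rw [← b.sum_repr (b i * b j)]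
      rw [Finset.smul_sum]
      congr 1
      refine Finset.sum_congr rfl fun k _ => ?_
      rw [← IsScalarTower.algebraMap_smul K (γ (i, j, k)), hγ (i, j, k), smul_assoc]
    rw [hij, Finset.smul_sum]
    refine Submodule.sum_mem _ fun k _ => ?_
    rw [smul_comm]
    refine Submodule.smul_mem _ _ ?_
    by_cases hk : k = i₀
    · have : b k = c k := by simp only [c, ε, if_pos hk, one_smul]
      rw [this]
      exact Submodule.smul_mem _ _ (hmem k)
    · have : (D : R) • b k = c k := by simp only [c, ε, if_neg hk]
      rw [this]; exact hmem k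
  let C := (Submodule.span R (Set.range c)).toSubalgebra h1 (fun x y hx hy => by
    induction hx, hy using Submodule.span_induction₂ with
    | mem_mem x y hx hy =>
      obtain ⟨i, rfl⟩ := hx; obtain ⟨j, rfl⟩ := hy; exact hmul i j
    | zero_left y hy => rw [zero_mul]; exact zero_mem _
    | zero_right x hx => rw [mul_zero]; exact zero_mem _
    | add_left x y z _ _ _ hx hy => rw [add_mul]; exact add_mem hx hy
    | add_right x y z _ _ _ hx hy => rw [mul_add]; exact add_mem hx hy
    | smul_left r x y _ _ h => rw [smul_mul_assoc]; exact Submodule.smul_mem _ r h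
    | smul_right r x y _ _ h => rw [mul_smul_comm]; exact Submodule.smul_mem _ r h)
  have hεc : ∀ i, ε i ≠ 0 := fun i => by
    simp only [ε]; split
    · exact one_ne_zero
    · exact hD0
  have hli' : LinearIndependent R c := by
    rw [Fintype.linearIndependent_iff]
    intro g hg i
    have hz : ∑ j, algebraMap R K (g j * ε j) • b j = 0 := by
      rw [← hg]
      refine Finset.sum_congr rfl fun j _ => ?_
      rw [IsScalarTower.algebraMap_smul, mul_smul]
    have := IsFractionRing.injective R K
      ((Fintype.linearIndependent_iff.mp b.linearIndependent _ hz i).trans (map_zero (algebraMap R K)).symm)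
    exact (mul_eq_zero.mp this).resolve_right (hεc i)
  refine ⟨C, ?_, ?_, fun l => ?_⟩
  · exact Module.Finite.span_of_finite R (Set.finite_range c)
  · exact Module.Free.of_basis (Module.Basis.span hli')
  · obtain ⟨d, hd⟩ := IsLocalization.exist_integer_multiples_of_finite (nonZeroDivisors R)
      (fun i => b.repr l i)
    choose e he using hd
    refine ⟨(D : R) * (d : R), mul_ne_zero hD0 (nonZeroDivisors.coe_ne_zero d), ?_⟩
    show _ ∈ Submodule.span R (Set.range c)
    conv => arg 2; rw [← b.sum_repr l]
    rw [Finset.smul_sum]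
    refine Submodule.sum_mem _ fun i _ => ?_
    rw [mul_smul, ← smul_assoc (d : R), ← he i, IsScalarTower.algebraMap_smul, smul_comm]
    refine Submodule.smul_mem _ _ ?_
    by_cases hi : i = i₀
    · have : b i = c i := by simp only [c, ε, if_pos hi, one_smul]
      rw [this]
      exact Submodule.smul_mem _ _ (hmem i)
    · have : (D : R) • b i = c i := by simp only [c, ε, if_neg hi]
      rw [this]; exact hmem i

/-- A point with values in the fraction field extends over a basic open. -/
theorem exists_extend_point {R : Type u} [CommRing R] (L : Type u) [Field L] [Algebra R L] (C : Subalgebra R L)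
    (hC : ∀ l : L, ∃ r : R, algebraMap R L r ≠ 0 ∧ r • l ∈ C) {V : Scheme.{u}}
    (f : V ⟶ Spec (CommRingCat.of R)) [LocallyOfFiniteType f] (ξ : Spec (CommRingCat.of L) ⟶ V)
    (hξ : ξ ≫ f = Spec.map (CommRingCat.ofHom (algebraMap R L))) :
    ∃ (c : C), c ≠ 0 ∧ ∃ k : Spec (CommRingCat.of (Localization.Away c)) ⟶ V,
      k ≫ f = Spec.map (CommRingCat.ofHom (algebraMap R (Localization.Away c))) := by
  classical
  obtain ⟨W, hW, hxW, -⟩ := exists_isAffineOpen_mem_and_subset (x := ξ default) (U := ⊤) trivial
  let α : CommRingCat.of R ⟶ Γ(V, W) := (Scheme.ΓSpecIso (CommRingCat.of R)).inv ≫ f.appLE ⊤ W le_top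
  have hα : Spec.map α = hW.fromSpec ≫ f := by
    rw [← IsAffineOpen.SpecMap_appLE_fromSpec f (isAffineOpen_top _) hW le_top, IsAffineOpen.fromSpec_top,
      Scheme.isoSpec_Spec_inv, ← Spec.map_comp]
  have hft : α.hom.FiniteType := by
    have : LocallyOfFiniteType (Spec.map α) := by rw [hα]; infer_instance
    exact (HasRingHomProperty.Spec_iff (P := @LocallyOfFiniteType)).mp this
  letI : Algebra R Γ(V, W) := α.hom.toAlgebra
  haveI : Algebra.FiniteType R Γ(V, W) := hft
  have hr : Set.range ξ ⊆ Set.range hW.fromSpec := by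
    rintro _ ⟨x, rfl⟩
    rw [hW.range_fromSpec, Subsingleton.elim x default]
    exact hxW
  obtain ⟨β, hβ⟩ := Spec.map_surjective (IsOpenImmersion.lift hW.fromSpec ξ hr)
  have hβR : α ≫ β = CommRingCat.ofHom (algebraMap R L) := by
    apply Spec.map_injective
    rw [Spec.map_comp, hβ, hα, IsOpenImmersion.lift_fac_assoc, hξ]
  let βa : Γ(V, W) →ₐ[R] L :=
    { β.hom with commutes' := fun r => congr($(hβR).hom r) }
  obtain ⟨s, hs⟩ := Algebra.FiniteType.out (R := R) (A := Γ(V, W))
  choose r hr0 hrC using fun x : s => hC (βa x)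
  let c : C := algebraMap R C (∏ x, r x)
  have hcL : (c : L) = algebraMap R L (∏ x, r x) := rfl
  have hc0 : (c : L) ≠ 0 := by
    rw [hcL, map_prod]
    exact Finset.prod_ne_zero_iff.mpr fun x _ => hr0 x
  let g₀ : C →+* L := C.val.toRingHom
  have hu : IsUnit (g₀ c) := isUnit_iff_ne_zero.mpr hc0
  let lC : Localization.Away c →ₐ[R] L :=
    { IsLocalization.Away.lift c hu with
      commutes' := fun x => by
        show IsLocalization.Away.lift c hu (algebraMap R (Localization.Away c) x) = _
        rw [IsScalarTower.algebraMap_apply R C (Localization.Away c), IsLocalization.Away.lift_eq]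
        rfl }
  have hlift : ∀ x : C, lC (algebraMap C (Localization.Away c) x) = (x : L) :=
    fun x => IsLocalization.Away.lift_eq c hu x
  have hlC : Function.Injective lC := by
    refine (injective_iff_map_eq_zero lC).mpr fun y hy => ?_
    obtain ⟨⟨x, ⟨_, n, rfl⟩⟩, hxy⟩ := IsLocalization.surj (Submonoid.powers c) y
    have h0 : (x : L) = 0 := by rw [← hlift x, ← hxy, map_mul, hy, zero_mul]
    have : y * algebraMap C (Localization.Away c) (c ^ n) = 0 := by
      rw [hxy, show x = 0 from Subtype.ext h0, map_zero]
    exact (IsUnit.mul_left_eq_zero (by rw [map_pow]; exact (IsLocalization.Away.algebraMap_isUnit c).pow n)).mp this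
  have hrange : βa.range ≤ lC.range := by
    rw [← Algebra.map_top, ← hs, AlgHom.map_adjoin, Algebra.adjoin_le_iff]
    rintro _ ⟨x, hx, rfl⟩
    let p : C := algebraMap R C (∏ y ∈ Finset.univ.erase (⟨x, hx⟩ : s), r y)
    refine ⟨algebraMap C (Localization.Away c) (p * ⟨_, hrC ⟨x, hx⟩⟩) * IsLocalization.Away.invSelf c, ?_⟩
    have hinv : lC (IsLocalization.Away.invSelf c) * (c : L) = 1 := by
      have : IsLocalization.Away.invSelf (S := Localization.Away c) c * algebraMap C _ c = 1 := by
        rw [mul_comm]; exact IsLocalization.Away.mul_invSelf c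
      have := congrArg lC this
      rw [map_mul, map_one] at this
      rwa [hlift] at this
    refine mul_right_cancel₀ hc0 ?_
    show lC _ * (c : L) = βa x * (c : L)
    rw [map_mul, mul_assoc, hinv, mul_one]
    show lC (algebraMap C _ _) = _
    rw [hlift, hcL]
    show algebraMap R L _ * (r ⟨x, hx⟩ • βa x) = _
    rw [Algebra.smul_def, ← mul_assoc, ← map_mul, Finset.prod_erase_mul _ _ (Finset.mem_univ _), mul_comm]
  let γ : Γ(V, W) →ₐ[R] Localization.Away c :=
    (AlgEquiv.ofInjective lC hlC).symm.toAlgHom.comp
      ((Subalgebra.inclusion hrange).comp βa.rangeRestrict)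
  refine ⟨c, fun h => hc0 (by rw [h]; rfl), Spec.map (CommRingCat.ofHom γ.toRingHom) ≫ hW.fromSpec, ?_⟩
  rw [Category.assoc, ← hα, ← Spec.map_comp]
  congr 1
  exact CommRingCat.hom_ext (RingHom.ext γ.commutes)

end Groth.Agent.HSquare
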