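import Groth.Agent.HSquare.Lifts
import Groth.Agent.HSquare.Integral
import Groth.Agent.H23.RedSub
import Groth.Agent.S1274
import Mathlib.RingTheory.Ideal.GoingUp
import Mathlib.AlgebraicGeometry.Morphisms.Separated
import Mathlib.AlgebraicGeometry.Morphisms.Flat
import Mathlib.AlgebraicGeometry.Morphisms.Finite
import Mathlib.AlgebraicGeometry.Noetherian

/-!
# Proper surjections are covering once flat ones and two generated blow ups are
-/

set_option autoImplicit false
set_option backward.isDefEq.respectTransparency false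
set_option backward.isDefEq.respectTransparency.types false

universe u

namespace Groth.Agent.HSquare

open CategoryTheory CategoryTheory.Limits AlgebraicGeometry TopologicalSpace
open Groth.Agent.BlowUpLib

variable {J : GrothendieckTopology Scheme.{u}}

theorem eq_centre {A : Type u} [CommRing A] (𝓘 : (Spec (CommRingCat.of A)).IdealSheafData) :
    ∃ I : Ideal A, centre I = 𝓘 := by
  refine ⟨(𝓘.ideal ⟨⊤, isAffineOpen_top _⟩).map (Scheme.ΓSpecIso (CommRingCat.of A)).hom.hom, ?_⟩
  refine Scheme.IdealSheafData.ext_of_isAffine ?_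
  rw [centre_top, Ideal.map_map, ← CommRingCat.hom_comp, Iso.hom_inv_id, CommRingCat.hom_id, Ideal.map_id]

theorem centre_ne_bot_of_ne {A : Type u} [CommRing A] {I : Ideal A} (h : centre I ≠ ⊥) : I ≠ ⊥ := by
  rintro rfl
  refine h (Scheme.IdealSheafData.ext_of_isAffine ?_)
  rw [centre_top, Ideal.map_bot, Scheme.IdealSheafData.ideal_bot]
  rfl

/-- A scheme-theoretic closure of a graph of a morphism defined on an open. -/
theorem exists_modification {N V : Scheme.{u}} {U : Scheme.{u}} (u : U ⟶ N) [IsOpenImmersion u] [CompactSpace U]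
    [IsReduced U] [QuasiSeparatedSpace N] (p : V ⟶ N) [IsProper p] (γ : U ⟶ V) (hγ : γ ≫ p = u) :
    ∃ (G : Scheme.{u}) (φ : G ⟶ N) (r : G ⟶ V), IsProper φ ∧ r ≫ p = φ ∧ IsIso (φ ∣_ u.opensRange) := by
  haveI : QuasiSeparatedSpace V := quasiSeparatedSpace_of_quasiSeparated p
  haveI : QuasiCompact γ := quasiCompact_of_compactSpace γ
  haveI : IsReduced γ.image := H23.RedSub.isReduced_subscheme fun W => by
    show (γ.ker.ideal W).IsRadical
    rw [Scheme.Hom.ker_apply]
    intro x hx
    obtain ⟨n, hn⟩ := hx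
    rw [RingHom.mem_ker, map_pow] at hn
    exact IsReduced.eq_zero _ ⟨n, hn⟩
  let φ := γ.imageι ≫ p
  refine ⟨γ.image, φ, γ.imageι, inferInstance, rfl, ?_⟩
  have hs : γ.toImage ≫ φ = u := by rw [← Category.assoc, Scheme.Hom.toImage_imageι, hγ]
  let O := φ ⁻¹ᵁ u.opensRange
  have hr : Set.range γ.toImage ⊆ Set.range O.ι := by
    rintro _ ⟨x, rfl⟩
    rw [Scheme.Opens.range_ι]
    show φ (γ.toImage x) ∈ Set.range u
    exact ⟨x, by rw [← Scheme.Hom.comp_apply, hs]⟩
  let s := IsOpenImmersion.lift O.ι γ.toImage hr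
  have hsO : s ≫ O.ι = γ.toImage := IsOpenImmersion.lift_fac _ _ _
  haveI : IsDominant s := by
    refine ⟨?_⟩
    have h1 : Dense (O.ι ⁻¹' Set.range γ.toImage) :=
      (γ.toImage.denseRange).preimage O.ι.isOpenEmbedding.isOpenMap
    refine h1.mono ?_
    rintro x ⟨y, hy⟩
    exact ⟨y, O.ι.isOpenEmbedding.injective (by rw [← Scheme.Hom.comp_apply, hsO, hy])⟩
  haveI : IsReduced O.toScheme := isReduced_of_isOpenImmersion O.ι
  let e : U ≅ u.opensRange.toScheme := u.isoOpensRange
  have hsφ : s ≫ (φ ∣_ u.opensRange) = e.hom := by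
    rw [← cancel_mono u.opensRange.ι, Category.assoc, morphismRestrict_ι, ← Category.assoc, hsO, hs]
    exact (Scheme.Hom.isoOpensRange_hom_ι u).symm
  refine ⟨e.inv ≫ s, ?_, ?_⟩
  · refine ext_of_isDominant_of_isSeparated (φ ∣_ u.opensRange) ?_ s ?_
    · rw [Category.assoc, Category.assoc, hsφ, Iso.inv_hom_id, Category.comp_id, Category.id_comp]
    · rw [reassoc_of% hsφ, Iso.hom_inv_id_assoc, Category.comp_id]
  · rw [Category.assoc, hsφ, Iso.inv_hom_id]

section step

variable (hz : Scheme.zariskiTopology ≤ J)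
  (h2 : ∀ (R : Type u) [CommRing R] [IsNoetherianRing R] (a b : R), pieces (Ideal.span {a, b}) ∈ J _)
  (hflat : ∀ (X Y : Scheme.{u}) (f : Y ⟶ X), Flat f → IsProper f → Surjective f → LocallyOfFinitePresentation f →
    lifts f ∈ J X)

include hz h2 hflat

/-- The step of the induction. -/
theorem mem_of_smaller {R : Type u} [CommRing R] [IsNoetherianRing R] {V : Scheme.{u}}
    (f : V ⟶ Spec (CommRingCat.of R)) [IsProper f] [Surjective f]
    (ih : ∀ (R' : Type u) [CommRing R'] (φ : R →+* R'), (∃ a, a ≠ 0 ∧ φ a = 0) →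
      (lifts f).pullback (Spec.map (CommRingCat.ofHom φ)) ∈ J _) : lifts f ∈ J _ := by
  rcases subsingleton_or_nontrivial R with hR | hR
  · haveI : IsEmpty (Spec (CommRingCat.of R)) := inferInstanceAs (IsEmpty (PrimeSpectrum R))
    haveI : IsEmpty V := Function.isEmpty f
    refine J.superset_covering (fun Z g _ => ?_) (J.top_mem _)
    haveI : IsEmpty Z := Function.isEmpty g
    exact ⟨(isInitialOfIsEmpty : IsInitial Z).to V, (isInitialOfIsEmpty : IsInitial Z).hom_ext _ _⟩
  by_cases hdom : NoZeroDivisors R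
  swap
  · obtain ⟨a, b, hab, ha, hb⟩ : ∃ a b : R, a * b = 0 ∧ a ≠ 0 ∧ b ≠ 0 := by
      by_contra h
      push Not at h
      exact hdom ⟨fun {a b} hab => or_iff_not_imp_left.mpr (h a b hab)⟩
    refine mem_of_charts hz _ (pieces_mem' hz h2 (Ideal.span {a})) _
      (ih _ _ ⟨a, ha, Ideal.Quotient.eq_zero_iff_mem.mpr (Ideal.mem_span_singleton_self a)⟩) fun c => ?_
    refine ih _ _ ⟨b, hb, ?_⟩
    obtain ⟨x, hx⟩ := Ideal.mem_span_singleton'.mp c.2
    refine mem_nonZeroDivisors_iff_right.mp (nonZeroDivisor_chart (Ideal.span {a}) c) _ ?_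
    have hbc : b * (c : R) = 0 := by rw [← hx, mul_comm x, ← mul_assoc, mul_comm b, hab, zero_mul]
    rw [← map_mul, hbc, map_zero]
  haveI : IsDomain R := NoZeroDivisors.to_isDomain R
  obtain ⟨L, _, _, _, _, _, ξ, hξ⟩ := exists_finite_point f
  have hinj : Function.Injective (algebraMap R L) := by
    rw [IsScalarTower.algebraMap_eq R (FractionRing R) L]
    exact (algebraMap (FractionRing R) L).injective.comp (IsFractionRing.injective R _)
  obtain ⟨C, hCf, hCfree, hC⟩ := exists_finite_free (R := R) L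
  haveI := hCf
  haveI := hCfree
  obtain ⟨c, hc, k, hk⟩ := exists_extend_point L C
    (fun l => (hC l).imp fun r hr => ⟨fun h => hr.1 (hinj (h.trans (map_zero _).symm)), hr.2⟩) f ξ hξ
  haveI : IsNoetherianRing C := IsNoetherianRing.of_finite R C
  let π : Spec (CommRingCat.of C) ⟶ Spec (CommRingCat.of R) := Spec.map (CommRingCat.ofHom (algebraMap R C))
  haveI : IsFinite π := (IsFinite.SpecMap_iff _).mpr (RingHom.finite_algebraMap.mpr inferInstance)
  haveI : Flat π := (HasRingHomProperty.Spec_iff (P := @Flat)).mpr (RingHom.flat_algebraMap_iff.mpr inferInstance)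
  haveI : Surjective π := ⟨fun x => PrimeSpectrum.comap_surjective_of_faithfullyFlat x⟩
  haveI : LocallyOfFinitePresentation π := LocallyOfFinitePresentation.iff_locallyOfFiniteType.mpr inferInstance
  suffices h : (lifts f).pullback π ∈ J _ by
    refine J.transitive (hflat _ _ π inferInstance inferInstance inferInstance inferInstance) _ ?_
    rintro Z g ⟨l, rfl⟩
    exact pullback_mem_of_fac h l _ rfl
  let p := pullback.snd f π
  let u : Spec (CommRingCat.of (Localization.Away c)) ⟶ Spec (CommRingCat.of C) :=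
    Spec.map (CommRingCat.ofHom (algebraMap C (Localization.Away c)))
  haveI : IsOpenImmersion u := IsOpenImmersion.of_isLocalization c
  haveI : IsDomain (Localization.Away c) := IsLocalization.isDomain_localization
    (powers_le_nonZeroDivisors_of_noZeroDivisors hc)
  let γ : Spec (CommRingCat.of (Localization.Away c)) ⟶ pullback f π := pullback.lift k u (by
    rw [hk, ← Spec.map_comp]
    rfl)
  obtain ⟨G, φ, r, hφ, hr, hiso⟩ := exists_modification u p γ (pullback.lift_snd _ _ _)
  haveI := hφ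
  haveI := hiso
  obtain ⟨𝓘, N', b, hb, hadm, h, hh⟩ := S1274.result φ u.opensRange
    (by rw [Scheme.Hom.coe_opensRange]; exact isCompact_range u.continuous)
  obtain ⟨I, rfl⟩ := eq_centre 𝓘
  have hI : I ≠ ⊥ := centre_ne_bot_of_ne fun h0 => by
    obtain ⟨z⟩ : Nonempty (Spec (CommRingCat.of (Localization.Away c))) := inferInstance
    exact Set.disjoint_left.mp hadm.2 (by rw [h0, Scheme.IdealSheafData.support_bot]; trivial) ⟨z, rfl⟩
  refine mem_of_charts hz I (pieces_mem' hz h2 I) _ ?_ fun a => ?_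
  · rw [← Sieve.pullback_comp, ← Spec.map_comp]
    obtain ⟨x, hxI, hx0⟩ := Submodule.exists_mem_ne_zero_of_ne_bot hI
    obtain ⟨a, ha, ha0⟩ := Submodule.exists_mem_ne_zero_of_ne_bot
      (Ideal.comap_ne_bot_of_integral_mem (R := R) hx0 hxI (Algebra.IsIntegral.isIntegral x))
    exact ih _ ((Ideal.Quotient.mk I).comp (algebraMap R C))
      ⟨a, ha0, Ideal.Quotient.eq_zero_iff_mem.mpr ha⟩
  · obtain ⟨m, hm, -⟩ := hb.2 _ _ (isEffCartier_chart I a)
    refine J.superset_covering (fun Z g _ => ?_) (J.top_mem _)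
    refine ⟨g ≫ m ≫ h ≫ r ≫ pullback.fst f π, ?_⟩
    simp only [Category.assoc]
    rw [pullback.condition, ← Category.assoc r, show r ≫ pullback.snd f π = φ from hr,
      ← Category.assoc h, hh, ← Category.assoc m, hm]

theorem proper_surjective_mem {R₀ : Type u} [CommRing R₀] [IsNoetherianRing R₀] {V : Scheme.{u}}
    (f : V ⟶ Spec (CommRingCat.of R₀)) [IsProper f] [Surjective f] : lifts f ∈ J _ := by
  suffices h : ∀ I : Ideal R₀, (lifts f).pullback (Spec.map (CommRingCat.ofHom (Ideal.Quotient.mk I))) ∈ J _ by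
    let e := RingEquiv.quotientBot R₀
    have := pullback_mem_of_fac (h ⊥) (Spec.map (CommRingCat.ofHom e.toRingHom)) (𝟙 _) (by
      rw [← Spec.map_comp, ← Spec.map_id]
      exact congrArg Spec.map (CommRingCat.hom_ext (RingHom.ext fun x => rfl)))
    rwa [Sieve.pullback_id] at this
  intro I
  induction I using WellFoundedGT.induction with
  | ind I hI =>
    let q := Spec.map (CommRingCat.ofHom (Ideal.Quotient.mk I))
    rw [pullback_lifts_of_isPullback (IsPullback.of_hasPullback f q)]
    refine mem_of_smaller hz h2 hflat (pullback.snd f q) fun R' _ φ ⟨a, ha, hφ⟩ => ?_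
    rw [← pullback_lifts_of_isPullback (IsPullback.of_hasPullback f q), ← Sieve.pullback_comp]
    obtain ⟨x, rfl⟩ := Ideal.Quotient.mk_surjective a
    have hlt : I < I ⊔ Ideal.span {x} := left_lt_sup.mpr fun h =>
      ha (Ideal.Quotient.eq_zero_iff_mem.mpr (h (Ideal.mem_span_singleton_self x)))
    let ψ : R₀ ⧸ (I ⊔ Ideal.span {x}) →+* R' := Ideal.Quotient.lift _ (φ.comp (Ideal.Quotient.mk I)) (by
      intro y hy
      refine (show I ⊔ Ideal.span {x} ≤ RingHom.ker (φ.comp (Ideal.Quotient.mk I)) from sup_le (fun z hz => ?_) ?_) hy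
      · show φ _ = 0
        rw [Ideal.Quotient.eq_zero_iff_mem.mpr hz, map_zero]
      · rw [Ideal.span_singleton_le_iff_mem]
        exact hφ)
    refine pullback_mem_of_fac (hI _ hlt) (Spec.map (CommRingCat.ofHom ψ)) _ ?_
    rw [← Spec.map_comp, ← Spec.map_comp]
    rfl

end step

end Groth.Agent.HSquare
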