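import Groth.Agent.GeomNear.Basic
import Groth.Agent.ConsPropLib.CoreProper
import Groth.Agent.LimSm.Flat
import Mathlib.AlgebraicGeometry.AffineTransitionLimit

/-!
# Noetherian models of proper surjections
-/

universe u
set_option autoImplicit false
set_option linter.style.haveILetI false
set_option backward.isDefEq.respectTransparency false
set_option backward.isDefEq.respectTransparency.types false
open AlgebraicGeometry CategoryTheory CategoryTheory.Limits TopologicalSpace
  Groth.Agent.MorLib Groth.Agent.MorLib.Desc Groth.Agent.ConsPropLib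

namespace Groth.Agent.HSquare

/-- A proper surjection of finite presentation to an affine scheme comes from one over a noetherian
affine scheme. -/
theorem exists_proper_surjective_model {X S : Scheme.{u}} [IsAffine S] (f : X ⟶ S)
    [LocallyOfFinitePresentation f] [IsProper f] [Surjective f] :
    ∃ (S₁ X₁ : Scheme.{u}) (ρ : S ⟶ S₁) (f₁ : X₁ ⟶ S₁) (q : X ⟶ X₁),
      IsNoetherian S₁ ∧ IsAffine S₁ ∧ IsProper f₁ ∧ Surjective f₁ ∧ IsPullback q f f₁ ρ := by
  obtain ⟨I, _, _, D, c, hc, e, hA, hN⟩ := exists_noetherian_limit S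
  haveI := hA
  haveI : ∀ {i j : I} (f : i ⟶ j), IsAffineHom (D.map f) := fun f => isAffineHom_of_isAffine _
  obtain ⟨i, X₁, u₁, g₁, hX⟩ := hasModel hc (f ≫ e.inv)
  haveI := hX.lfp; haveI := hX.qc; haveI := hX.qs
  haveI := hX.compactSpace; haveI := hX.quasiSeparatedSpace
  have hp : IsProper (pullback.snd u₁ (c.π.app i)) :=
    of_two @IsProper hX.sq (IsPullback.of_hasPullback _ _) inferInstance
  obtain ⟨j, φ, hj⟩ := core_isProper I D c hc (fun a b f => inferInstance) i (hA i) u₁
    inferInstance inferInstance hX.lfp hp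
  haveI := hj
  have hY := hX.pushed φ
  haveI := hY.lfp; haveI := hY.qc; haveI := hY.qs
  haveI := hY.compactSpace; haveI := hY.quasiSeparatedSpace
  let uj := pullback.snd u₁ (D.map φ)
  let Ω : (D.obj j).Opens := ⟨(Set.range uj)ᶜ, uj.isClosedMap.isClosed_range.isOpen_compl⟩
  haveI := hN j
  have hΩ : IsCompact (Ω : Set (D.obj j)) := IsNoetherian.noetherianSpace.isCompact _
  have hempty : c.π.app j ⁻¹ᵁ Ω ≤ c.π.app j ⁻¹ᵁ ⊥ := by
    intro s hs
    obtain ⟨x, hx⟩ := (f ≫ e.inv).surjective s
    refine (hs ?_).elim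
    exact ⟨_, (Scheme.Hom.comp_apply _ _ _).symm.trans ((congr($(hY.sq.w) x)).trans
      ((Scheme.Hom.comp_apply _ _ _).trans (congrArg _ hx)))⟩
  obtain ⟨k, ψ, hk⟩ := exists_map_preimage_le_map_preimage D c hc hΩ hempty
  have hs : Surjective (pullback.snd uj (D.map ψ)) := ⟨fun s => by
    have hs : D.map ψ s ∈ Set.range uj := by
      by_contra h
      exact hk (show s ∈ D.map ψ ⁻¹ᵁ Ω from h)
    obtain ⟨x, hx⟩ := hs
    obtain ⟨z, -, hz⟩ := Scheme.Pullback.exists_preimage_pullback (f := uj) (g := D.map ψ) x s hx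
    exact ⟨z, hz⟩⟩
  exact ⟨D.obj k, _, e.inv ≫ c.π.app k, pullback.snd uj (D.map ψ), hY.push ψ, hN k, hA k,
    inferInstance, hs,
    (hY.pushed ψ).sq.of_iso (Iso.refl _) (Iso.refl _) e (Iso.refl _) (by simp) (by simp) (by simp [uj]) (by simp)⟩

end Groth.Agent.HSquare
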