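import Groth.Agent.HSquare.Glue
import Groth.Agent.HSquare.Core
import Groth.Agent.HSquare.Model
import Groth.Agent.ABlowEx.Main
import Groth.Agent.EtDescX.OverFin
import Groth.Agent.S8981

/-!
# h sheaves through flat proper surjections and almost blow up squares
-/

set_option autoImplicit false
set_option backward.isDefEq.respectTransparency false
set_option backward.isDefEq.respectTransparency.types false

universe w u

namespace Groth.Agent.HSquare

open CategoryTheory CategoryTheory.Limits AlgebraicGeometry HTop Opposite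
open Groth.Agent.BlowUpLib Groth.Agent.EtDescX

variable {S : Scheme.{u}}

theorem kerSpecMk {R : Type u} [CommRing R] (I : Ideal R) :
    (Spec.map (CommRingCat.ofHom (Ideal.Quotient.mk I))).ker = centre I := by
  refine Scheme.IdealSheafData.ext_of_isAffine ?_
  rw [centre_top, Scheme.Hom.ker_apply]
  ext x
  rw [RingHom.mem_ker, ← Scheme.Hom.appTop]
  let σ := Scheme.ΓSpecIso (CommRingCat.of R)
  let τ := Scheme.ΓSpecIso (CommRingCat.of (R ⧸ I))
  have h : (Spec.map (CommRingCat.ofHom (Ideal.Quotient.mk I))).appTop.hom x =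
      τ.inv.hom (Ideal.Quotient.mk I (σ.hom.hom x)) := by
    have := congr($(Scheme.ΓSpecIso_inv_naturality (CommRingCat.ofHom (Ideal.Quotient.mk I))).hom (σ.hom.hom x))
    simp only [CommRingCat.hom_comp, RingHom.comp_apply, CommRingCat.hom_ofHom] at this
    rw [show σ.inv.hom (σ.hom.hom x) = x from congr($(σ.hom_inv_id).hom x)] at this
    exact this.symm
  erw [h]
  rw [map_eq_zero_iff _ (ConcreteCategory.bijective_of_isIso τ.inv).1, Ideal.Quotient.eq_zero_iff_mem,
    Ideal.mem_map_iff_of_surjective _ (ConcreteCategory.bijective_of_isIso σ.inv).2]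
  refine ⟨fun hx => ⟨_, hx, congr($(σ.hom_inv_id).hom x)⟩, ?_⟩
  rintro ⟨y, hy, rfl⟩
  rwa [show σ.hom.hom (σ.inv.hom y) = y from congr($(σ.inv_hom_id).hom y)]

/-- The morphisms lifting to one of two given ones. -/
def lifts₂ {X Y Z : Scheme.{u}} (i : Z ⟶ X) (b : Y ⟶ X) : Sieve X := lifts i ⊔ lifts b

theorem pieces_mem_finOver {F : (Over S)ᵒᵖ ⥤ Type w} (hF : Presieve.IsSheaf (Scheme.zariskiTopology.over S) F)
    (hsq : ∀ (E Z X' X : Over S) (e : E ⟶ X') (π : E ⟶ Z) (b : X' ⟶ X) (i : Z ⟶ X), IsAffine X.left →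
      HTop.IsAlmostBlowUpSquare e.left π.left b.left i.left →
      (∃ f₁ f₂ : Γ(X.left, ⊤), i.left.ker = Scheme.IdealSheafData.ofIdealTop (Ideal.span {f₁, f₂})) →
      ∀ (t : F.obj (op Z)) (s' : F.obj (op X')), F.map π.op t = F.map e.op s' →
        ∃! s : F.obj (op X), F.map i.op s = t ∧ F.map b.op s = s')
    (R : Type u) [CommRing R] [IsNoetherianRing R] (c₁ c₂ : R) :
    pieces (Ideal.span {c₁, c₂}) ∈ finOver F _ := by
  let I := Ideal.span {c₁, c₂}
  let i := (centre I).subschemeι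
  have hft : BlowUp.IsFiniteTypeIdeal (centre I) := fun U =>
    (IsLocallyNoetherian.component_noetherian U).noetherian _
  have h₀ := ABlowEx.isAlmostBlowUpSquare_of_isBlowUp (centre I) hft (toBase I) (isBlowUp_local I)
  refine (finOver F).superset_covering (S := lifts₂ i (toBase I)) ?_ ?_
  · refine sup_le ?_ fun Z g hg => Or.inr hg
    rintro Z g ⟨l, rfl⟩
    let q := Spec.map (CommRingCat.ofHom (Ideal.Quotient.mk I))
    haveI : IsClosedImmersion q := IsClosedImmersion.spec_of_surjective _ Ideal.Quotient.mk_surjective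
    refine Or.inl ⟨l ≫ IsClosedImmersion.lift q i ?_, ?_⟩
    · rw [Scheme.IdealSheafData.ker_subschemeι, kerSpecMk]
    · rw [Category.assoc, IsClosedImmersion.lift_fac]
  refine mem_finOver_of_affine hF _ fun Y _ g t => ?_
  -- the base change to an affine scheme over `S`
  let pX := pullback.fst g (toBase I)
  let pZ := pullback.fst g i
  have hX : IsPullback (pullback.snd g (toBase I)) pX (toBase I) g := (IsPullback.of_hasPullback g (toBase I)).flip
  have hZ : IsPullback (pullback.snd g i) pZ i g := (IsPullback.of_hasPullback g i).flip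
  let e₀ := pullback.fst (toBase I) i
  let eE := pullback.snd e₀ (pullback.snd g (toBase I))
  have hw : (pullback.fst e₀ (pullback.snd g (toBase I)) ≫ pullback.snd (toBase I) i) ≫ i = (eE ≫ pX) ≫ g := by
    rw [Category.assoc, Category.assoc, ← hX.w, ← pullback.condition (f := toBase I) (g := i),
      ← Category.assoc, ← Category.assoc, pullback.condition (g := pullback.snd g (toBase I))]
  let πE := hZ.lift _ _ hw
  have hπ : πE ≫ pZ = eE ≫ pX := hZ.lift_snd _ _ _
  have h₁ := HTopCov.isAlmostBlowUpSquare_baseChange h₀ g hX hZ (IsPullback.of_hasPullback _ _) hπ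
  let W : Over S := Over.mk t
  let Zo : Over S := Over.mk (pZ ≫ t)
  let Xo : Over S := Over.mk (pX ≫ t)
  let Eo : Over S := Over.mk (eE ≫ pX ≫ t)
  let io : Zo ⟶ W := Over.homMk pZ
  let bo : Xo ⟶ W := Over.homMk pX
  let eo : Eo ⟶ Xo := Over.homMk eE
  let πo : Eo ⟶ Zo := Over.homMk πE (by
    show πE ≫ pZ ≫ t = eE ≫ pX ≫ t
    rw [← Category.assoc, hπ, Category.assoc])
  haveI : IsAffine W.left := ‹IsAffine Y›
  have hgen : ∃ f₁ f₂ : Γ(Y, ⊤), io.left.ker = Scheme.IdealSheafData.ofIdealTop (Ideal.span {f₁, f₂}) := by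
    refine ⟨strHom g ⊤ c₁, strHom g ⊤ c₂, Scheme.IdealSheafData.ext_of_isAffine ?_⟩
    have : pZ.ker = (centre I).comap g := rfl
    show pZ.ker.ideal _ = _
    rw [this]
    refine (ideal_comap_centre I g ⟨⊤, isAffineOpen_top _⟩).trans ?_
    rw [Scheme.IdealSheafData.ofIdealTop_ideal]
    erw [Y.presheaf.map_id, Ideal.map_id]
    rw [Ideal.map_span, Set.image_insert_eq, Set.image_singleton]
  let Zf : ULift.{u} Bool → Over S := fun k => bif k.down then Xo else Zo
  let gf : ∀ k, Zf k ⟶ W := fun k => match k with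
    | ⟨true⟩ => bo
    | ⟨false⟩ => io
  have hsieve : (Sieve.overEquiv W).symm ((lifts₂ i (toBase I)).pullback g) =
      Sieve.generate (Presieve.ofArrows Zf gf) := by
    refine Sieve.ext fun T k => ?_
    rw [Sieve.overEquiv_symm_iff, Sieve.pullback_apply]
    change ((∃ l, l ≫ i = k.left ≫ g) ∨ (∃ l, l ≫ toBase I = k.left ≫ g)) ↔ _
    constructor
    · rintro (⟨l, hl⟩ | ⟨l, hl⟩)
      · exact ⟨Zo, Over.homMk (hZ.lift l k.left hl) (by
          show hZ.lift l k.left hl ≫ pZ ≫ t = T.hom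
          rw [← Category.assoc, hZ.lift_snd]; exact Over.w k), io, Presieve.ofArrows.mk (Y := Zf) (f := gf) (⟨false⟩ : ULift.{u} Bool),
          Over.OverMorphism.ext (hZ.lift_snd _ _ _)⟩
      · exact ⟨Xo, Over.homMk (hX.lift l k.left hl) (by
          show hX.lift l k.left hl ≫ pX ≫ t = T.hom
          rw [← Category.assoc, hX.lift_snd]; exact Over.w k), bo, Presieve.ofArrows.mk (Y := Zf) (f := gf) (⟨true⟩ : ULift.{u} Bool),
          Over.OverMorphism.ext (hX.lift_snd _ _ _)⟩
    · rintro ⟨_, l, _, ⟨m⟩, rfl⟩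
      rcases m with ⟨_ | _⟩
      · exact Or.inl ⟨l.left ≫ pullback.snd g i, by
          show (l.left ≫ _) ≫ i = (l.left ≫ pZ) ≫ g
          rw [Category.assoc, Category.assoc, hZ.w]⟩
      · exact Or.inr ⟨l.left ≫ pullback.snd g (toBase I), by
          show (l.left ≫ _) ≫ toBase I = (l.left ≫ pX) ≫ g
          rw [Category.assoc, Category.assoc, hX.w]⟩
  rw [hsieve, ← Presieve.isSheafFor_iff_generate, Presieve.isSheafFor_arrows_iff]
  intro x hx
  obtain ⟨s, ⟨hs₀, hs₁⟩, huniq⟩ := hsq Eo Zo Xo W eo πo bo io (inferInstanceAs (IsAffine Y)) h₁ hgen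
    (x ⟨false⟩) (x ⟨true⟩) (hx ⟨false⟩ ⟨true⟩ Eo πo eo (Over.OverMorphism.ext hπ))
  exact ⟨s, by rintro ⟨_ | _⟩; exacts [hs₀, hs₁], fun y hy => huniq y ⟨hy ⟨false⟩, hy ⟨true⟩⟩⟩

theorem flat_mem_finOver {F : (Over S)ᵒᵖ ⥤ Type w} (hF : Presieve.IsSheaf (Scheme.zariskiTopology.over S) F)
    (hp : ∀ (X Y : Over S) (f : X ⟶ Y), IsAffine Y.left → Surjective f.left → Flat f.left → IsProper f.left →
      LocallyOfFinitePresentation f.left → Presieve.IsSheafFor F (Presieve.singleton f))
    (X Y : Scheme.{u}) (f : Y ⟶ X) (h₁ : Flat f) (h₂ : IsProper f) (h₃ : Surjective f)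
    (h₄ : LocallyOfFinitePresentation f) : lifts f ∈ finOver F X := by
  rw [← lifts_eq_sieve₀]
  refine singleton_mem_finOver hF f fun U V g q q' hU hpb => hp V U q hU ?_ ?_ ?_ ?_
  · exact MorphismProperty.of_isPullback hpb.flip h₃
  · exact MorphismProperty.of_isPullback hpb.flip h₁
  · exact MorphismProperty.of_isPullback hpb.flip h₂
  · exact MorphismProperty.of_isPullback hpb.flip h₄

/-- The reverse implication. -/
theorem isSheaf_Jh {F : (Over S)ᵒᵖ ⥤ Type w} (hF : Presieve.IsSheaf (Scheme.zariskiTopology.over S) F)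
    (hp : ∀ (X Y : Over S) (f : X ⟶ Y), IsAffine Y.left → Surjective f.left → Flat f.left → IsProper f.left →
      LocallyOfFinitePresentation f.left → Presieve.IsSheafFor F (Presieve.singleton f))
    (hsq : ∀ (E Z X' X : Over S) (e : E ⟶ X') (π : E ⟶ Z) (b : X' ⟶ X) (i : Z ⟶ X), IsAffine X.left →
      HTop.IsAlmostBlowUpSquare e.left π.left b.left i.left →
      (∃ f₁ f₂ : Γ(X.left, ⊤), i.left.ker = Scheme.IdealSheafData.ofIdealTop (Ideal.span {f₁, f₂})) →
      ∀ (t : F.obj (op Z)) (s' : F.obj (op X')), F.map π.op t = F.map e.op s' →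
        ∃! s : F.obj (op X), F.map i.op s = t ∧ F.map b.op s = s') :
    Presieve.IsSheaf (HTop.Jh S) F := by
  refine (S8981.result S F).mpr ⟨hF, fun U V f hU hf₁ hf₂ hf₃ => isSheafFor_of_mem_finOver _ ?_⟩
  haveI := hU; haveI := hf₁; haveI := hf₂; haveI := hf₃
  rw [Presieve.map_singleton]
  show Sieve.generate (Presieve.singleton f.left) ∈ _
  rw [← lifts_eq_generate]
  obtain ⟨S₁, X₁, ρ, f₁, q, _, _, _, _, hpb⟩ := exists_proper_surjective_model f.left
  haveI : IsNoetherianRing Γ(S₁, ⊤) :=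
    IsLocallyNoetherian.component_noetherian ⟨⊤, isAffineOpen_top S₁⟩
  haveI : Surjective (f₁ ≫ S₁.isoSpec.hom) := inferInstance
  have h : lifts (f₁ ≫ S₁.isoSpec.hom) ∈ finOver F (Spec Γ(S₁, ⊤)) :=
    proper_surjective_mem (le_finOver_of_isSheaf hF) (pieces_mem_finOver hF hsq) (flat_mem_finOver hF hp)
      (f₁ ≫ S₁.isoSpec.hom)
  refine (finOver F).superset_covering ?_ ((finOver F).pullback_stable (ρ ≫ S₁.isoSpec.hom) h)
  rintro T k ⟨l, hl⟩
  have hl' : l ≫ f₁ = k ≫ ρ := by
    rw [← cancel_mono S₁.isoSpec.hom, Category.assoc, Category.assoc, hl]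
  exact ⟨hpb.lift l k hl', hpb.lift_snd _ _ _⟩

/-- The direct implication. -/
theorem of_isSheaf_Jh {F : (Over S)ᵒᵖ ⥤ Type w} (h : Presieve.IsSheaf (HTop.Jh S) F) :
    Presieve.IsSheaf (Scheme.zariskiTopology.over S) F ∧
    (∀ (X Y : Over S) (f : X ⟶ Y), IsAffine Y.left → Surjective f.left → Flat f.left → IsProper f.left →
      LocallyOfFinitePresentation f.left → Presieve.IsSheafFor F (Presieve.singleton f)) ∧
    ∀ (E Z X' X : Over S) (e : E ⟶ X') (π : E ⟶ Z) (b : X' ⟶ X) (i : Z ⟶ X),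
      HTop.IsAlmostBlowUpSquare e.left π.left b.left i.left →
      ∀ (t : F.obj (op Z)) (s' : F.obj (op X')), F.map π.op t = F.map e.op s' →
        ∃! s : F.obj (op X), F.map i.op s = t ∧ F.map b.op s = s' :=
  ⟨((S8981.result S F).mp h).1, fun X Y f hY hs _ hp hfp => ((S8981.result S F).mp h).2 Y X f hY hp hs hfp,
    fun _ _ _ _ e π b i hb t s' hts => existsUnique_glue_almostBlowUp h e π b i hb t s' hts⟩

end Groth.Agent.HSquare
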